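import Mathlib
import Cfsg.Agent.Lib.Helper76.GOut.P1Defs

/-!
# Project GOUT (helper76), module [P1-SIX-IRR] (helper83)

`dim V = 6`, `Y ≤ GL(V)` transitive on the nonzero vectors: a Sylow `3`-subgroup of `Y` is irreducible
(all its orbits on the nonzero vectors have length divisible by `9`, and `9 ∤ 2ʲ - 1` for `0 < j < 6`).
-/

set_option autoImplicit false
set_option linter.unusedSectionVars false

namespace Cfsg.Agent.Lib.Helper83.GOut

/-- if all orbits have length divisible by `d`, so has the set -/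
theorem dvd_card_of_forall_dvd_orbit {α β : Type*} [Group α] [MulAction α β] [Finite β] (d : ℕ)
    (h : ∀ b : β, d ∣ Nat.card (MulAction.orbit α b)) : d ∣ Nat.card β := by
  classical
  have := Fintype.ofFinite (Quotient (MulAction.orbitRel α β))
  rw [Nat.card_congr (MulAction.selfEquivSigmaOrbits α β), Nat.card_sigma]
  apply Finset.dvd_sum
  intro ω _
  exact h _

theorem nine_dvd_two_pow_sub_one {j : ℕ} (hj : j ≤ 6) (h : 9 ∣ 2 ^ j - 1) : j = 0 ∨ j = 6 := by
  interval_cases j <;> simp_all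

end Cfsg.Agent.Lib.Helper83.GOut

namespace Cfsg.Agent.Lib.Helper76.GOut

open Cfsg.Agent.Lib.Helper83.GOut

section Lin

variable {V : Type*} [AddCommGroup V] [Module (ZMod 2) V] [Finite V]

/-- the stabilizer in a `3`-subgroup `P` of `Y` of a nonzero vector has order `3ᶜ` with
`c + 2 ≤ v₃(|Y|)` -/
theorem six_stab_card (Y : Subgroup (V ≃ₗ[ZMod 2] V)) (htrans : TransSub Y)
    (hn : Module.finrank (ZMod 2) V = 6) (P : Subgroup ↥Y) (hP : IsPGroup 3 P) (v : V) (hv : v ≠ 0) :
    ∃ c : ℕ, Nat.card (MulAction.stabilizer ↥P v) = 3 ^ c ∧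
      c + 2 ≤ (Nat.card ↥Y).factorization 3 := by
  classical
  have : Fact (Nat.Prime 3) := ⟨Nat.prime_three⟩
  have hfinY : Finite ↥Y := inferInstance
  have := Fintype.ofFinite ↥Y
  have := Fintype.ofFinite V
  -- the orbit of `v` under `Y` is the set of nonzero vectors
  have horb : MulAction.orbit ↥Y v = {w : V | w ≠ 0} := by
    ext w
    constructor
    · rintro ⟨y, rfl⟩
      show (y : V ≃ₗ[ZMod 2] V) v ≠ 0
      simpa using hv
    · intro hw
      obtain ⟨y, hy, hyv⟩ := htrans v w hv hw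
      exact ⟨⟨y, hy⟩, hyv⟩
  have hcardV : Nat.card V = 64 := by
    have hfd : Module.Finite (ZMod 2) V := Module.Finite.of_finite
    rw [Module.natCard_eq_pow_finrank (K := ZMod 2), hn, Nat.card_eq_fintype_card, ZMod.card]
    norm_num
  have hcard_orb : Nat.card (MulAction.orbit ↥Y v) = 63 := by
    rw [horb]
    have h1 : Nat.card {w : V | w ≠ 0} = Nat.card V - 1 := by
      have : {w : V | w ≠ 0} = ({0} : Set V)ᶜ := by ext w; simp
      rw [this, Nat.card_eq_fintype_card, Nat.card_eq_fintype_card, Fintype.card_compl_set]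
      simp
    rw [h1, hcardV]
  have hYcard : Nat.card ↥Y = 63 * Nat.card (MulAction.stabilizer ↥Y v) := by
    have := MulAction.card_orbit_mul_card_stabilizer_eq_card_group ↥Y v
    rw [← Nat.card_eq_fintype_card, ← Nat.card_eq_fintype_card, ← Nat.card_eq_fintype_card,
      hcard_orb] at this
    exact this.symm
  -- the stabilizer in `P`
  have hPs : IsPGroup 3 (MulAction.stabilizer ↥P v) :=
    hP.of_injective (MulAction.stabilizer ↥P v).subtype Subtype.coe_injective
  obtain ⟨c, hc⟩ := IsPGroup.iff_card.1 hPs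
  refine ⟨c, hc, ?_⟩
  -- it embeds into the stabilizer in `Y`
  let f : MulAction.stabilizer ↥P v →* MulAction.stabilizer ↥Y v :=
    { toFun := fun p => ⟨((p : ↥P) : ↥Y), p.2⟩
      map_one' := rfl
      map_mul' := fun _ _ => rfl }
  have hf : Function.Injective f := by
    intro a b hab
    have h1 : (((a : ↥P) : ↥Y)) = ((b : ↥P) : ↥Y) :=
      congrArg (fun z : MulAction.stabilizer ↥Y v => (z : ↥Y)) hab
    exact Subtype.ext (Subtype.ext h1)
  have hdvd : 3 ^ c ∣ Nat.card (MulAction.stabilizer ↥Y v) := by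
    rw [← hc]
    exact Subgroup.card_dvd_of_injective f hf
  have hdvd2 : 3 ^ (c + 2) ∣ Nat.card ↥Y := by
    rw [hYcard, pow_add, mul_comm (3 ^ c)]
    exact Nat.mul_dvd_mul (by norm_num) hdvd
  exact (Nat.Prime.pow_dvd_iff_le_factorization Nat.prime_three Nat.card_pos.ne').1 hdvd2

/-- **GOUT-[P1-SIX-IRR]** -/
theorem six_sylow_three_irrSub (Y : Subgroup (V ≃ₗ[ZMod 2] V)) (htrans : TransSub Y)
    (hn : Module.finrank (ZMod 2) V = 6) (P : Sylow 3 ↥Y) :
    IrrSub ((P : Subgroup ↥Y).map Y.subtype) := by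
  classical
  have : Fact (Nat.Prime 3) := ⟨Nat.prime_three⟩
  have hfinY : Finite ↥Y := inferInstance
  intro W hW
  by_cases hbot : W = ⊥
  · exact Or.inl hbot
  right
  have hfd : Module.Finite (ZMod 2) V := Module.Finite.of_finite
  -- the action of `P` on the nonzero vectors of `W`
  have hinv : ∀ p : ↥(P : Subgroup ↥Y), ∀ w ∈ W, ((p : ↥Y) : V ≃ₗ[ZMod 2] V) w ∈ W := by
    intro p w hw
    exact hW _ ⟨(p : ↥Y), p.2, rfl⟩ w hw
  let X : SubMulAction ↥(P : Subgroup ↥Y) V :=
    { carrier := {w : V | w ∈ W ∧ w ≠ 0}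
      smul_mem' := by
        intro p w hw
        refine ⟨hinv p w hw.1, ?_⟩
        show ((p : ↥Y) : V ≃ₗ[ZMod 2] V) w ≠ 0
        simpa using hw.2 }
  have hfinX : Finite ↥X := Finite.of_injective (fun x : ↥X => (x : V)) Subtype.coe_injective
  have hPcard : Nat.card ↥(P : Subgroup ↥Y) = 3 ^ (Nat.card ↥Y).factorization 3 :=
    P.card_eq_multiplicity
  -- all orbits have length divisible by `9`
  have h9 : 9 ∣ Nat.card ↥X := by
    apply dvd_card_of_forall_dvd_orbit (α := ↥(P : Subgroup ↥Y))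
    intro x
    obtain ⟨c, hc, hle⟩ := six_stab_card Y htrans hn (P : Subgroup ↥Y) P.isPGroup' (x : V) x.2.2
    have hstab : MulAction.stabilizer ↥(P : Subgroup ↥Y) x =
        MulAction.stabilizer ↥(P : Subgroup ↥Y) (x : V) := SubMulAction.stabilizer_of_subMul x
    have := Fintype.ofFinite ↥(P : Subgroup ↥Y)
    have := Fintype.ofFinite (MulAction.orbit ↥(P : Subgroup ↥Y) x)
    have := Fintype.ofFinite (MulAction.stabilizer ↥(P : Subgroup ↥Y) x)
    have h1 := MulAction.card_orbit_mul_card_stabilizer_eq_card_group ↥(P : Subgroup ↥Y) x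
    rw [← Nat.card_eq_fintype_card, ← Nat.card_eq_fintype_card, ← Nat.card_eq_fintype_card,
      hstab, hc, hPcard] at h1
    set a := (Nat.card ↥Y).factorization 3 with ha
    have h2 : Nat.card (MulAction.orbit ↥(P : Subgroup ↥Y) x) = 3 ^ (a - c) := by
      have h3 : (3 : ℕ) ^ a = 3 ^ (a - c) * 3 ^ c := by
        rw [← pow_add]; congr 1; omega
      rw [h3] at h1
      exact Nat.eq_of_mul_eq_mul_right (by positivity) h1
    rw [h2]
    have h4 : (3 : ℕ) ^ (a - c) = 3 ^ 2 * 3 ^ (a - c - 2) := by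
      rw [← pow_add]; congr 1; omega
    rw [h4]
    exact Dvd.intro _ rfl
  -- `|X| = 2ʲ - 1`
  have hcardW : Nat.card ↥W = 2 ^ Module.finrank (ZMod 2) ↥W := by
    rw [Module.natCard_eq_pow_finrank (K := ZMod 2), Nat.card_eq_fintype_card, ZMod.card]
  have hcardX : Nat.card ↥X = Nat.card ↥W - 1 := by
    have := Fintype.ofFinite V
    have e : ↥X ≃ {w : ↥W // w ≠ 0} :=
      { toFun := fun x => ⟨⟨(x : V), x.2.1⟩, fun h => x.2.2 (congrArg Subtype.val h)⟩
        invFun := fun w => ⟨(w.1 : V), w.1.2, fun h => w.2 (Subtype.ext h)⟩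
        left_inv := fun _ => rfl
        right_inv := fun _ => rfl }
    rw [Nat.card_congr e]
    have : Nat.card {w : ↥W // w ≠ 0} = Nat.card (({0} : Set ↥W)ᶜ : Set ↥W) := by
      apply Nat.card_congr
      exact Equiv.subtypeEquivRight (fun w => by simp)
    rw [this, Nat.card_eq_fintype_card, Nat.card_eq_fintype_card, Fintype.card_compl_set]
    simp
  have hjle : Module.finrank (ZMod 2) ↥W ≤ 6 := hn ▸ Submodule.finrank_le W
  rw [hcardX, hcardW] at h9
  rcases nine_dvd_two_pow_sub_one hjle h9 with h0 | h6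
  · exfalso
    apply hbot
    exact Submodule.finrank_eq_zero.1 h0
  · apply Submodule.eq_top_of_finrank_eq
    rw [h6, hn]

end Lin

end Cfsg.Agent.Lib.Helper76.GOut
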