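import Mathlib
import Cfsg.Agent.Lib.Helper76.GOut.P1Defs
import Cfsg.Agent.Lib.Helper92.GOutSM
import Cfsg.Agent.Lib.Helper55.HuppertA1
import Cfsg.Agent.S2904

/-!
# Project GOUT (helper76), module [P1-ZS] (helper83), `_of` form

`P1_of_ne_six_of` : the case `dim V ≠ 6` of block P1, with the statements of [P1-IRRSOLV] and [P1-FRAT]
as hypotheses.
-/

set_option autoImplicit false
set_option linter.unusedSectionVars false

namespace Cfsg.Agent.Lib.Helper83.GOut

open Cfsg.Agent.Lib.Helper76.GOut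

section Lin

variable {V : Type*} [AddCommGroup V] [Module (ZMod 2) V] [Finite V]

/-- the linear group of a space of dimension `≤ 1` over `𝔽₂` is trivial -/
theorem eq_one_of_finrank_le_one (h : Module.finrank (ZMod 2) V ≤ 1) (x : V ≃ₗ[ZMod 2] V) :
    x = 1 := by
  have hfd : Module.Finite (ZMod 2) V := Module.Finite.of_finite
  obtain ⟨v₀, hv₀⟩ := finrank_le_one_iff.1 h
  have key : x v₀ = v₀ := by
    obtain ⟨c, hc⟩ := hv₀ (x v₀)
    have hc01 : ∀ c : ZMod 2, c = 0 ∨ c = 1 := by decide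
    have hc01 := hc01 c
    rcases hc01 with rfl | rfl
    · rw [zero_smul] at hc
      have : v₀ = 0 := by
        apply x.injective
        rw [← hc, map_zero]
      rw [this, map_zero]
    · rw [one_smul] at hc
      exact hc.symm
  ext w
  obtain ⟨c, rfl⟩ := hv₀ w
  rw [map_smul, key]
  rfl

/-- the order of a subgroup transitive on the nonzero vectors is divisible by `2ⁿ - 1` -/
theorem card_dvd_of_transSub (Y : Subgroup (V ≃ₗ[ZMod 2] V)) (htrans : TransSub Y)
    (hV : ∃ v : V, v ≠ 0) : 2 ^ Module.finrank (ZMod 2) V - 1 ∣ Nat.card ↥Y := by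
  classical
  obtain ⟨v, hv⟩ := hV
  have hfinY : Finite ↥Y := inferInstance
  have := Fintype.ofFinite ↥Y
  have := Fintype.ofFinite V
  have horb : MulAction.orbit ↥Y v = {w : V | w ≠ 0} := by
    ext w
    constructor
    · rintro ⟨y, rfl⟩
      show (y : V ≃ₗ[ZMod 2] V) v ≠ 0
      simpa using hv
    · intro hw
      obtain ⟨y, hy, hyv⟩ := htrans v w hv hw
      exact ⟨⟨y, hy⟩, hyv⟩
  have hcardV : Nat.card V = 2 ^ Module.finrank (ZMod 2) V := by
    have hfd : Module.Finite (ZMod 2) V := Module.Finite.of_finite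
    rw [Module.natCard_eq_pow_finrank (K := ZMod 2), Nat.card_eq_fintype_card, ZMod.card]
  have hcard_orb : Nat.card (MulAction.orbit ↥Y v) = 2 ^ Module.finrank (ZMod 2) V - 1 := by
    rw [horb]
    have h1 : Nat.card {w : V | w ≠ 0} = Nat.card V - 1 := by
      have : {w : V | w ≠ 0} = ({0} : Set V)ᶜ := by ext w; simp
      rw [this, Nat.card_eq_fintype_card, Nat.card_eq_fintype_card, Fintype.card_compl_set]
      simp
    rw [h1, hcardV]
  have := MulAction.card_orbit_mul_card_stabilizer_eq_card_group ↥Y v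
  rw [← Nat.card_eq_fintype_card, ← Nat.card_eq_fintype_card, ← Nat.card_eq_fintype_card,
    hcard_orb] at this
  exact Dvd.intro _ this

/-- **GOUT-[P1-ZS]** with the statements of [P1-IRRSOLV] and [P1-FRAT] as hypotheses -/
theorem P1_of_ne_six_of
    (hIRR : ∀ (P : Subgroup (V ≃ₗ[ZMod 2] V)) (r : ℕ) [Fact r.Prime], IsPGroup r P → P ≠ ⊥ →
      (∀ x ∈ P, x ≠ 1 → IrrSub (Subgroup.zpowers x)) →
      Group.IsSolvable ↥(Subgroup.normalizer (P : Set (V ≃ₗ[ZMod 2] V))))
    (X Y : Subgroup (V ≃ₗ[ZMod 2] V)) (hYX : Y ≤ X)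
    (hFRAT : ∀ (p : ℕ) [Fact p.Prime] (P : Sylow p ↥Y),
      Group.IsSolvable ↥(X ⊓ Subgroup.normalizer
        ((((P : Subgroup ↥Y).map Y.subtype : Subgroup (V ≃ₗ[ZMod 2] V))) :
          Set (V ≃ₗ[ZMod 2] V))) → SolvMod X Y)
    (htrans : TransSub Y)
    (hn : Module.finrank (ZMod 2) V ≠ 6) : SolvMod X Y := by
  classical
  have hfd : Module.Finite (ZMod 2) V := Module.Finite.of_finite
  by_cases hn1 : Module.finrank (ZMod 2) V ≤ 1
  · -- `GL(V)` is trivial
    refine ⟨0, ?_⟩
    intro x hx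
    rw [eq_one_of_finrank_le_one hn1 x]
    exact Y.one_mem
  push Not at hn1
  set n := Module.finrank (ZMod 2) V with hndef
  -- Zsigmondy
  obtain ⟨r, hr, hrdvd, hrprim⟩ := Cfsg.Agent.S2904.result 2 n (by norm_num) hn1
    (fun h => hn h.2)
    (by
      rintro ⟨-, m, hm⟩
      have h3 : (3 : ℕ) = 2 ^ m := by omega
      rcases m with _ | m
      · norm_num at h3
      · have : 2 ∣ 3 := by rw [h3, pow_succ]; exact Dvd.intro_left _ rfl
        omega)
  have : Fact r.Prime := ⟨hr⟩
  have hfinY : Finite ↥Y := inferInstance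
  -- `V` has a nonzero vector
  have hV : ∃ v : V, v ≠ 0 := by
    by_contra hcon
    push Not at hcon
    have : Module.finrank (ZMod 2) V = 0 := by
      rw [Module.finrank_eq_zero_iff_of_free (R := ZMod 2)]
      exact ⟨fun a b => by rw [hcon a, hcon b]⟩
    omega
  have hrY : r ∣ Nat.card ↥Y := hrdvd.trans (card_dvd_of_transSub Y htrans hV)
  -- a Sylow `r`-subgroup of `Y`
  obtain ⟨P⟩ : Nonempty (Sylow r ↥Y) := inferInstance
  have hPne : (P : Subgroup ↥Y) ≠ ⊥ := by
    intro hbot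
    have h1 := P.card_eq_multiplicity
    rw [hbot, Subgroup.card_bot] at h1
    have h2 : 0 < (Nat.card ↥Y).factorization r :=
      (hr.factorization_pos_of_dvd Nat.card_pos.ne' hrY)
    have h3 : 1 < r ^ (Nat.card ↥Y).factorization r := Nat.one_lt_pow (by omega) hr.one_lt
    omega
  set Q : Subgroup (V ≃ₗ[ZMod 2] V) := (P : Subgroup ↥Y).map Y.subtype with hQ
  have hQp : IsPGroup r Q := P.isPGroup'.map Y.subtype
  have hQne : Q ≠ ⊥ := by
    intro hbot
    apply hPne
    rw [hQ, (Subgroup.map_eq_bot_iff_of_injective _ Y.subtype_injective)] at hbot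
    exact hbot
  -- every nonidentity element of `Q` generates an irreducible subgroup
  have hirr : ∀ x ∈ Q, x ≠ 1 → IrrSub (Subgroup.zpowers x) := by
    intro x hxQ hx1
    obtain ⟨m, hm⟩ := (IsPGroup.iff_orderOf.1 hQp) ⟨x, hxQ⟩
    have hm' : orderOf x = r ^ m := by
      rw [← hm]; exact (Subgroup.orderOf_mk x hxQ).symm
    have hm0 : m ≠ 0 := by
      intro h0
      rw [h0, pow_zero, orderOf_eq_one_iff] at hm'
      exact hx1 hm'
    obtain ⟨m', rfl⟩ := Nat.exists_eq_succ_of_ne_zero hm0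
    set y := x ^ r ^ m' with hy
    have hyr : y ^ r = 1 := by
      rw [hy, ← pow_mul, ← pow_succ, ← hm', pow_orderOf_eq_one]
    have hy1 : y ≠ 1 := by
      intro h1
      have := orderOf_dvd_of_pow_eq_one h1
      rw [hm'] at this
      have h2 : r ^ (m' + 1) ≤ r ^ m' := Nat.le_of_dvd (pow_pos hr.pos _) this
      have h3 : r ^ m' < r ^ (m' + 1) := Nat.pow_lt_pow_right hr.one_lt (by omega)
      omega
    have hprim : ∀ i : ℕ, 1 ≤ i → i < Module.finrank (ZMod 2) V → ¬ r ∣ 2 ^ i - 1 :=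
      fun i hi1 hi2 => hrprim i (by omega) hi2
    obtain ⟨-, hyirr⟩ := Cfsg.Agent.Lib.Helper55.Huppert.prim_fpf_irr (q := 2) y r hrdvd hprim
      hyr hy1
    intro W hW
    apply hyirr W
    intro v hv
    exact hW y (Subgroup.pow_mem _ (Subgroup.mem_zpowers x) _) v hv
  have hsolN := hIRR Q r hQp hQne hirr
  apply hFRAT r P
  exact Group.isSolvable_of_isSolvable_injective
    (f := Subgroup.inclusion (inf_le_right : X ⊓ Subgroup.normalizer (Q : Set _) ≤ _))
    (Subgroup.inclusion_injective _)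

end Lin

end Cfsg.Agent.Lib.Helper83.GOut
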